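/-
Cohomology along pro-(finite etale) covers of degree prime to `ℓ`.
-/
import Groth.Agent.EtAcycFibLib.Cover
import Groth.Agent.EtTransferLib.Basic
import Groth.Agent.EtShLib.FinSplit
import Groth.Agent.EtContLib.Main
import Groth.Agent.EtCdLocalLib.Point
import Groth.Agent.EtShLib.TorsionOk
import Groth.Agent.ConsEmbedLib.Colim
import Groth.Agent.S8532
import Groth.Agent.S14451

set_option autoImplicit false
set_option linter.all false
set_option backward.isDefEq.respectTransparency false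
set_option backward.isDefEq.respectTransparency.types false
set_option synthInstance.maxHeartbeats 400000
set_option maxHeartbeats 1600000

universe u

open CategoryTheory CategoryTheory.Limits CategoryTheory.Abelian AlgebraicGeometry Opposite DescSecLib
open Groth.Agent Groth.Agent.EtShLib

attribute [local instance] EtSliceLib.pullExact

noncomputable section

namespace EtProFinLib

/-- The fibres over separably closed points have the cardinality of the geometric fibres. -/
theorem card_fib {S : Scheme.{u}} (W : S.Etale) [IsFinite W.hom] (d : ℕ)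
    (hd : ∀ (Ω : Type u) [Field Ω] [IsAlgClosed Ω] (η : Spec (CommRingCat.of Ω) ⟶ S),
      Nat.card {t : Spec (CommRingCat.of Ω) ⟶ W.left // t ≫ W.hom = η} = d)
    (Ω : Type u) [Field Ω] [IsSepClosed Ω] (ξ : Spec (CommRingCat.of Ω) ⟶ S) : Nat.card (Fib ξ W) = d := by
  haveI : IsFinite (str W) := ‹IsFinite W.hom›
  obtain ⟨-, V, w, s, -, hb⟩ := exists_split_finite W ξ
  let a : Spec (CommRingCat.of (AlgebraicClosure Ω)) ⟶ Spec (CommRingCat.of Ω) :=
    Spec.map (CommRingCat.ofHom (algebraMap Ω (AlgebraicClosure Ω)))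
  let w' : Fib (a ≫ ξ) V := Fib.mk (a ≫ w.hom) (by rw [Category.assoc, w.w])
  rw [Nat.card_congr (Equiv.ofBijective _ (hb (AlgebraicClosure Ω) (a ≫ ξ) w')), ← hd (AlgebraicClosure Ω) (a ≫ ξ)]
  exact Nat.card_congr
    { toFun := fun u => ⟨u.hom, u.w⟩
      invFun := fun t => Fib.mk t.1 t.2
      left_inv := fun u => Fib.ext rfl
      right_inv := fun t => rfl }

theorem isLTorsion_of_pow {Y : Scheme.{u}} {l : ℕ} (hl : l.Prime) {G : EtCoh.Ab Y}
    (h : Dix.IsPrimaryTorsion l G) : EtAcyc.IsLTorsion {l} G := fun U s x => by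
  obtain ⟨V, g, hv, n, h0⟩ := h U s x
  exact ⟨V, g, l ^ n, hv,
    ⟨pow_pos hl.pos n, fun p hp hd => (Nat.prime_dvd_prime_iff_eq hp hl).1 (hp.dvd_of_dvd_pow hd)⟩, h0⟩

section

variable {I : Type u} [SmallCategory I] [IsCofiltered I] {S : Scheme.{u}} [CompactSpace ↥S] [QuasiSeparatedSpace ↥S]
  (D : I ⥤ Scheme.{u}) (t : D ⟶ (Functor.const I).obj S) [hfin : ∀ i, IsFinite (t.app i)]
  (c : Cone D) (hc : IsLimit c) (g : c.pt ⟶ S) (w : ∀ i, c.π.app i ≫ t.app i = g)

include t in
theorem affine_map {i j : I} (a : i ⟶ j) : IsAffineHom (D.map a) := by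
  haveI : IsAffineHom (D.map a ≫ t.app j) := by
    rw [show D.map a ≫ t.app j = t.app i from (t.naturality a).trans (Category.comp_id _)]
    haveI := hfin i
    infer_instance
  haveI := hfin j
  exact IsAffineHom.of_comp (D.map a) (t.app j)

include t in
theorem compact_obj (i : I) : CompactSpace (D.obj i) :=
  haveI := hfin i
  haveI : CompactSpace ↥(((Functor.const I).obj S).obj i) := ‹CompactSpace ↥S›
  QuasiCompact.compactSpace_of_compactSpace (t.app i)

include t in
theorem qs_obj (i : I) : QuasiSeparatedSpace (D.obj i) :=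
  haveI := hfin i
  haveI : QuasiSeparatedSpace ↥(((Functor.const I).obj S).obj i) := ‹QuasiSeparatedSpace ↥S›
  quasiSeparatedSpace_of_quasiSeparated (t.app i)

include hc w hfin in
theorem injective_Hpull (het : ∀ i, AlgebraicGeometry.Etale (t.app i)) (d : I → ℕ)
    (hdeg : ∀ (i : I) (Ω : Type u) [Field Ω] [IsAlgClosed Ω] (η : Spec (CommRingCat.of Ω) ⟶ S),
      Nat.card {s : Spec (CommRingCat.of Ω) ⟶ D.obj i // s ≫ t.app i = η} = d i)
    {l : ℕ} (hl : l.Prime) (hd : ∀ i, l.Coprime (d i)) {G : EtCoh.Ab S} (hG : Dix.IsPrimaryTorsion l G) (n : ℕ)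
    (ξ : EtCoh.H S G n) (h : EtCore.Hpull g G n ξ = 0) : ξ = 0 := by
  haveI : ∀ i j (a : i ⟶ j), IsAffineHom (D.map a) := fun i j a => affine_map D t a
  haveI : ∀ {i j : I} (a : i ⟶ j), IsAffineHom (D.map a) := fun {i j} a => affine_map D t a
  haveI := compact_obj D t
  haveI := qs_obj D t
  let i₀ : I := Classical.choice IsCofiltered.nonempty
  let x := etSys.Hmap G n (EtAcycLib.toBase (t.app i₀)) (EtAcycFibLib.atBase G ξ)
  have hx : etSys.Hmap G n (EtContLib.stgPt t c g w i₀) x = 0 := by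
    refine (etSys.Hmap_comp G n _ _ (EtAcycFibLib.atBase G ξ)).symm.trans ?_
    refine Eq.trans ?_ ((EtAcycFibLib.kills_iff G ξ g).1 h)
    exact congrArg (fun s => etSys.Hmap G n s (EtAcycFibLib.atBase G ξ)) (Over.OverMorphism.ext (w i₀))
  obtain ⟨k, a, hk⟩ := EtStrictAcycLib.exists_Hmap_stgMap G t c hc _ w n i₀ x hx
  have hK : EtAcycFibLib.Kills G ξ (t.app k) := (EtAcycFibLib.kills_iff G ξ _).2 (by
    refine Eq.trans ?_ hk
    refine Eq.trans ?_ (etSys.Hmap_comp G n _ _ (EtAcycFibLib.atBase G ξ))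
    exact congrArg (fun s => etSys.Hmap G n s (EtAcycFibLib.atBase G ξ))
      (Over.OverMorphism.ext ((t.naturality a).trans (Category.comp_id _)).symm))
  let W : S.Etale := MorphismProperty.Over.mk ⊤ (t.app k) (het k)
  haveI : IsFinite W.hom := hfin k
  have h1 : d k • ξ = 0 := EtTransferLib.nsmul_eq_zero (W := W) (d k)
    (fun Ω _ _ η => card_fib W (d k) (fun Ω _ _ η => hdeg k Ω η) Ω η) ξ
    ((EtTransferLib.kills_iff (W := W) G n ξ).1 hK)
  have hiso : IsIso (d k • 𝟙 G) := Groth.Agent.S8532.isIso_nsmul (isLTorsion_of_pow hl hG) fun p _ hp => by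
    rw [Set.mem_singleton_iff.1 hp]
    exact hl.coprime_iff_not_dvd.1 (hd k)
  exact EtContLib.ext_eq_zero_of_comp ξ _ hiso ((EtTransferLib.comp_mk₀_nsmul ξ (d k)).trans h1)

include hc w hfin in
theorem subsingleton_of_push (F : EtCoh.Ab c.pt) (n : ℕ) [Subsingleton (EtCoh.H S ((EtCoh.push g).obj F) n)] :
    Subsingleton (EtCoh.H c.pt F n) := by
  haveI : ∀ i j (a : i ⟶ j), IsAffineHom (D.map a) := fun i j a => affine_map D t a
  haveI : ∀ {i j : I} (a : i ⟶ j), IsAffineHom (D.map a) := fun {i j} a => affine_map D t a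
  haveI := compact_obj D t
  haveI := qs_obj D t
  have hC := EtContLib.isLim_pushCoc c F hc
  have hψ := fun {k j : I} (a : k ⟶ j) => EtContLib.pushSys_compat c F a
  refine subsingleton_of_forall_eq 0 fun ξ => ?_
  obtain ⟨i, x, hx⟩ := EtContLib.Sys.surjective' c (P := EtContLib.pushSys c F) hψ hc hC n ξ
  haveI := hfin i
  haveI : IsIso ((DescSecLib.etPc (c.π.app i) (t.app i) g (w i)).app F) :=
    ConsEmbedLib.isIso_etPc (c.π.app i) (t.app i) g (w i) F
  haveI : Subsingleton (EtCoh.H (((Functor.const I).obj S).obj i) ((EtCoh.push (t.app i)).obj ((EtCoh.push (c.π.app i)).obj F)) n) :=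
    haveI hs : Subsingleton (EtCoh.H S ((EtCoh.push g).obj F) n) := ‹_›
    @Function.Surjective.subsingleton _ _ _ hs
      (EtAcycLib.bijective_mk₀_iso_postcomp (asIso ((DescSecLib.etPc (c.π.app i) (t.app i) g (w i)).app F)) n).2
  haveI : Subsingleton (EtCoh.H (D.obj i) ((EtContLib.pushSys c F).F i) n) :=
    (Groth.Agent.S14451.result (t.app i) ((EtCoh.push (c.π.app i)).obj F)
      (fun j hj => isZero_rightDerived_push_finite (t.app i) _ j hj) n).2.subsingleton
  rw [← hx, Subsingleton.elim x 0]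
  exact map_zero _

include hc w hfin in
theorem isPrimaryTorsion_push {l : ℕ} (hl : l.Prime) {F : EtCoh.Ab c.pt} (hF : Dix.IsPrimaryTorsion l F) :
    Dix.IsPrimaryTorsion l ((EtCoh.push g).obj F) := by
  haveI : ∀ i j (a : i ⟶ j), IsAffineHom (D.map a) := fun i j a => affine_map D t a
  haveI : ∀ {i j : I} (a : i ⟶ j), IsAffineHom (D.map a) := fun {i j} a => affine_map D t a
  let i₀ : I := Classical.choice IsCofiltered.nonempty
  haveI := isAffineHom_π_app D c hc i₀
  haveI := hfin i₀
  haveI : IsAffineHom g := by rw [← w i₀]; infer_instance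
  haveI : (EtCoh.push g).Additive := { }
  haveI : PreservesLimitsOfSize.{0, 0} (EtCoh.push g) := (EtCoh.pullPushAdj g).rightAdjoint_preservesLimits
  haveI : PreservesFiniteLimits (EtCoh.push g) := PreservesLimitsOfSize.preservesFiniteLimits _
  exact EtCdLocalLib.isPrimaryTorsion_of_isLTorsion ((isLTorsion_iff_torsionBy _ _).2
    (torsionBy_of_iso ((EtCoh.push g).rightDerivedZeroIsoSelf.app F)
      (torsionBy_rightDerived_push g (okSet_primesIn _) ((isLTorsion_iff_torsionBy _ _).1 (isLTorsion_of_pow hl hF)) 0)))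

end

end EtProFinLib
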